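import Cfsg.Agent.Lib.Invol.CyclicCentralizer
import Cfsg.Agent.Lib.Perm.Zassenhaus.Even
import Cfsg.Agent.Lib.Char.SmallSpectra
import Cfsg.Agent.S0730

/-!
# Groups acting on eighteen points with normal stabilised subgroups of order seventeen

Such groups are `PSL(2,17)` or `PGL(2,17)`.
-/

set_option autoImplicit false
set_option linter.all false

namespace CfsgLib.Char.SylSeventeen

open MulAction

/-- `X` acts faithfully and transitively on `18` points and each point stabiliser normalises a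
subgroup of order `17` inside it. -/
structure Act (X Ω : Type*) [Group X] [MulAction X Ω] : Prop where
  faithful : FaithfulSMul X Ω
  card : Nat.card Ω = 18
  trans : IsPretransitive X Ω
  ker : ∀ a : Ω, ∃ P : Subgroup X, Nat.card P = 17 ∧ P ≤ stabilizer X a ∧
    ∀ g ∈ stabilizer X a, ∀ u ∈ P, g * u * g⁻¹ ∈ P

variable {X Ω : Type*} [Group X] [Finite X] [MulAction X Ω] [Finite Ω]

theorem Act.regular (h : Act X Ω) {a : Ω} {P : Subgroup X} (hP : Nat.card P = 17)
    (hle : P ≤ stabilizer X a) :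
    (∀ u ∈ P, u ≠ 1 → ∀ c : Ω, c ≠ a → u • c ≠ c) ∧
      ∀ y w : Ω, y ≠ a → w ≠ a → ∃ u ∈ P, u • y = w := by
  classical
  haveI : Fact (Nat.Prime 17) := ⟨by norm_num⟩
  haveI := h.faithful
  have hp : IsPGroup 17 P := IsPGroup.of_card (n := 1) (by rw [hP, pow_one])
  have hfree : ∀ u ∈ P, u ≠ 1 → ∀ c : Ω, c ≠ a → u • c ≠ c := by
    intro u hu hu1 c hca hc
    have hgen : Subgroup.zpowers (⟨u, hu⟩ : P) = ⊤ :=
      zpowers_eq_top_of_prime_card hP (fun e => hu1 (congrArg Subtype.val e))
    have hfixP : ∀ v : P, (v : X) • c = c := fun v => by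
      obtain ⟨k, rfl⟩ := Subgroup.mem_zpowers_iff.1 (hgen ▸ Subgroup.mem_top v : v ∈ Subgroup.zpowers _)
      exact (Subgroup.zpow_mem (stabilizer X c) (show u ∈ stabilizer X c from hc) k)
    obtain ⟨d, hd⟩ : ∃ d : Ω, u • d ≠ d := by
      by_contra hcon
      push Not at hcon
      exact hu1 (FaithfulSMul.eq_of_smul_eq_smul fun x : Ω => by rw [hcon x, one_smul])
    obtain ⟨n, hn⟩ := hp.card_orbit (α := Ω) d
    have h17 : 17 ≤ Nat.card (orbit P d) := by
      rcases n with _ | n
      · exfalso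
        rw [pow_zero] at hn
        have : Subsingleton (orbit P d) := (Nat.card_eq_one_iff_unique.1 hn).1
        exact hd (congrArg Subtype.val (Subsingleton.elim
          (⟨(⟨u, hu⟩ : P) • d, mem_orbit d _⟩ : orbit P d) ⟨d, mem_orbit_self d⟩))
      · rw [hn, pow_succ]
        exact Nat.le_mul_of_pos_left _ (by positivity)
    have hsub : orbit P d ⊆ ({a, c}ᶜ : Set Ω) := by
      rintro _ ⟨v, rfl⟩ hv
      rcases hv with hv | hv
      · exact hd (by
          have : d = a := smul_left_cancel (v : X) (hv.trans (hle v.2).symm)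
          rw [this]; exact hle hu)
      · rw [Set.mem_singleton_iff] at hv
        exact hd (by
          have : d = c := smul_left_cancel (v : X) (hv.trans (hfixP v).symm)
          rw [this]; exact hc)
    have h16 : ({a, c}ᶜ : Set Ω).ncard = 16 := by
      rw [Set.ncard_compl, Set.ncard_pair hca.symm, h.card]
    have hle' := Set.ncard_le_ncard hsub (Set.toFinite _)
    rw [← Nat.card_coe_set_eq] at hle'
    omega
  refine ⟨hfree, fun y w hy hw => ?_⟩
  let f : P → {z : Ω // z ≠ a} := fun u =>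
    ⟨(u : X) • y, fun e => hy (smul_left_cancel (u : X) (e.trans (hle u.2).symm))⟩
  have hinj : Function.Injective f := fun u v e => by
    by_contra hne
    have e' : (u : X) • y = (v : X) • y := congrArg Subtype.val e
    refine hfree ((v : X)⁻¹ * u) (P.mul_mem (P.inv_mem v.2) u.2) ?_ y hy ?_
    · intro e1; exact hne (Subtype.ext (inv_mul_eq_one.1 e1).symm)
    · rw [mul_smul, e', inv_smul_smul]
  have hcardT : Nat.card {z : Ω // z ≠ a} = 17 := by
    show Nat.card ({a}ᶜ : Set Ω) = 17
    rw [Nat.card_coe_set_eq, Set.ncard_compl, Set.ncard_singleton, h.card]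
  obtain ⟨-, hsurj⟩ := (Nat.bijective_iff_injective_and_card f).2 ⟨hinj, by rw [hP, hcardT]⟩
  obtain ⟨u, hu⟩ := hsurj ⟨w, hw⟩
  exact ⟨u, u.2, congrArg Subtype.val hu⟩

theorem Act.three (h : Act X Ω) {g : X} {a b c : Ω} (hab : a ≠ b) (hbc : b ≠ c) (hac : a ≠ c)
    (ha : g • a = a) (hb : g • b = b) (hc : g • c = c) : g = 1 := by
  haveI := h.faithful
  haveI : Fact (Nat.Prime 17) := ⟨by norm_num⟩
  obtain ⟨P, hP, hle, hn⟩ := h.ker a
  obtain ⟨hfree, hreg⟩ := h.regular hP hle
  obtain ⟨u, hu, hub⟩ := hreg b c hab.symm hac.symm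
  have hu1 : u ≠ 1 := fun e => hbc (by rw [← hub, e, one_smul])
  have hconj : g * u * g⁻¹ = u := by
    by_contra hne
    refine hfree (u⁻¹ * (g * u * g⁻¹)) (P.mul_mem (P.inv_mem hu) (hn g ha u hu))
      (fun e => hne (inv_mul_eq_one.1 e).symm) b hab.symm ?_
    rw [mul_smul, mul_smul, mul_smul, inv_smul_eq_iff.2 hb.symm, hub, hc, ← hub, inv_smul_smul]
  refine FaithfulSMul.eq_of_smul_eq_smul fun x : Ω => ?_
  rw [one_smul]
  by_cases hx : x = a
  · rw [hx]; exact ha
  obtain ⟨v, hv, hvb⟩ := hreg b x hab.symm hx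
  have hgen : Subgroup.zpowers (⟨u, hu⟩ : P) = ⊤ :=
    zpowers_eq_top_of_prime_card hP (fun e => hu1 (congrArg Subtype.val e))
  obtain ⟨k, hk⟩ := Subgroup.mem_zpowers_iff.1
    (hgen ▸ Subgroup.mem_top (⟨v, hv⟩ : P) : (⟨v, hv⟩ : P) ∈ Subgroup.zpowers _)
  have hk' : u ^ k = v := congrArg Subtype.val hk
  have hcomm : Commute g (u ^ k) := (show Commute g u from mul_inv_eq_iff_eq_mul.1 hconj).zpow_right k
  rw [← hvb, ← hk', smul_smul, hcomm.eq, mul_smul, hb]

theorem Act.two (h : Act X Ω) : IsMultiplyPretransitive X Ω 2 := by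
  haveI := h.trans
  rw [MulAction.is_two_pretransitive_iff]
  intro x y u v hxy huv
  obtain ⟨g, hg⟩ := exists_smul_eq X x u
  obtain ⟨P, hP, hle, -⟩ := h.ker u
  obtain ⟨k, hk, hkv⟩ := (h.regular hP hle).2 (g • y) v
    (fun e => hxy (smul_left_cancel g (hg.trans e.symm))) huv.symm
  exact ⟨k * g, by rw [mul_smul, hg]; exact hle hk, by rw [mul_smul, hkv]⟩

theorem Act.card_eq (h : Act X Ω) {a b : Ω} (hab : a ≠ b) :
    Nat.card ↥(stabilizer X a ⊓ stabilizer X b) ∣ 16 ∧
      Nat.card X = 306 * Nat.card ↥(stabilizer X a ⊓ stabilizer X b) := by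
  classical
  haveI := h.trans
  haveI := h.faithful
  haveI : Fact (Nat.Prime 17) := ⟨by norm_num⟩
  obtain ⟨P, hP, hle, hn⟩ := h.ker a
  obtain ⟨hfree, hreg⟩ := h.regular hP hle
  set H := stabilizer X a ⊓ stabilizer X b with hH
  constructor
  · haveI : IsCyclic P := isCyclic_of_prime_card hP
    let θ : H →* MulAut P :=
      { toFun := fun g =>
          { toFun := fun u => ⟨(g : X) * u * (g : X)⁻¹, hn g g.2.1 u u.2⟩
            invFun := fun u => ⟨(g : X)⁻¹ * u * (g : X), by
              simpa using hn (g⁻¹ : H) (g⁻¹ : H).2.1 u u.2⟩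
            left_inv := fun u => Subtype.ext (by simp [mul_assoc])
            right_inv := fun u => Subtype.ext (by simp [mul_assoc])
            map_mul' := fun u v => Subtype.ext (by simp [mul_assoc]) }
        map_one' := MulEquiv.ext fun u => Subtype.ext (by simp)
        map_mul' := fun g k => MulEquiv.ext fun u => Subtype.ext (by simp [mul_assoc]) }
    have hθ : Function.Injective θ := by
      rw [injective_iff_map_eq_one]
      intro g hg
      refine Subtype.ext (FaithfulSMul.eq_of_smul_eq_smul fun x : Ω => ?_)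
      show (g : X) • x = (1 : X) • x
      rw [one_smul]
      by_cases hx : x = a
      · rw [hx]; exact g.2.1
      obtain ⟨v, hv, hvb⟩ := hreg b x hab.symm hx
      have e : (g : X) * v = v * g :=
        mul_inv_eq_iff_eq_mul.1 (congrArg Subtype.val (DFunLike.congr_fun hg (⟨v, hv⟩ : P)))
      rw [← hvb, smul_smul, e, mul_smul, show (g : X) • b = b from g.2.2]
    have := Subgroup.card_dvd_of_injective θ hθ
    rwa [IsCyclic.card_mulAut, hP, Nat.totient_prime (by norm_num : Nat.Prime 17)] at this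
  · have h1 : Nat.card X = 18 * Nat.card (stabilizer X a) := by
      rw [← (stabilizer X a).index_mul_card, index_stabilizer_of_transitive, h.card]
    have h2 : Nat.card (stabilizer X a) = 17 * Nat.card H := by
      rw [← (stabilizer (stabilizer X a) b).index_mul_card, index_stabilizer]
      congr 1
      · have : orbit (stabilizer X a) b = ({a}ᶜ : Set Ω) := by
          ext w
          constructor
          · rintro ⟨g, rfl⟩ e
            exact hab.symm (smul_left_cancel (g : X) ((Set.mem_singleton_iff.1 e).trans g.2.symm))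
          · intro hw
            obtain ⟨u, hu, huw⟩ := hreg b w hab.symm hw
            exact ⟨⟨u, hle hu⟩, huw⟩
        rw [this, Set.ncard_compl, Set.ncard_singleton, h.card]
      · refine Nat.card_congr ⟨fun g => ⟨g.1.1, g.1.2, g.2⟩, fun g => ⟨⟨g.1, g.2.1⟩, g.2.2⟩,
          fun _ => rfl, fun _ => rfl⟩
    omega

theorem Act.zassenhaus (h : Act X Ω) {a b : Ω} (hab : a ≠ b)
    (hne : 1 < Nat.card ↥(stabilizer X a ⊓ stabilizer X b)) : Cfsg.IsZassenhausGroup X Ω := by
  classical
  refine ⟨h.faithful, h.two, fun g x y z hxy hyz hxz => h.three hxy hyz hxz, ?_, ?_⟩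
  · haveI := (Finite.one_lt_card_iff_nontrivial).1 hne
    obtain ⟨⟨g, hg⟩, hg1⟩ := exists_ne (1 : ↥(stabilizer X a ⊓ stabilizer X b))
    exact ⟨g, fun e => hg1 (Subtype.ext e), a, b, hab, hg.1, hg.2⟩
  intro N hN hNt
  by_contra hcon
  push Not at hcon
  haveI := hNt
  have hcard : Nat.card N = 18 := by
    rw [← (stabilizer N a).index_mul_card, index_stabilizer_of_transitive, h.card, hcon a,
      Subgroup.card_bot]
  haveI : Fact (Nat.Prime 2) := ⟨by norm_num⟩
  haveI : Fact (Nat.Prime 3) := ⟨by norm_num⟩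
  obtain ⟨s, hs⟩ := exists_prime_orderOf_dvd_card' (G := N) 2 (by rw [hcard]; norm_num)
  obtain ⟨t, ht⟩ := exists_prime_orderOf_dvd_card' (G := N) 3 (by rw [hcard]; norm_num)
  obtain ⟨P, hP, hle, -⟩ := h.ker a
  have hne' : ∀ n : N, n ≠ 1 → (n : X) • a ≠ a := fun n hn e =>
    hn (Subgroup.mem_bot.1 (hcon a ▸ (show n ∈ stabilizer N a from e)))
  have hs1 : s ≠ 1 := by rintro rfl; simp at hs
  have ht1 : t ≠ 1 := by rintro rfl; simp at ht
  obtain ⟨u, hu, hus⟩ := (h.regular hP hle).2 _ _ (hne' s hs1) (hne' t ht1)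
  have hua : u⁻¹ • a = a := inv_smul_eq_iff.2 (show a = u • a from (hle hu).symm)
  have hconj : (⟨u * (s : X) * u⁻¹, hN.conj_mem _ s.2 u⟩ : N) = t := by
    refine Subtype.ext ?_
    have h1 : ((⟨u * (s : X) * u⁻¹, hN.conj_mem _ s.2 u⟩ : N) : X) • a = (t : X) • a := by
      show (u * (s : X) * u⁻¹) • a = _
      rw [mul_smul, mul_smul, hua, hus]
    by_contra hne''
    refine hne' (t⁻¹ * ⟨u * (s : X) * u⁻¹, hN.conj_mem _ s.2 u⟩) ?_ ?_
    · exact fun e => hne'' (congrArg Subtype.val (inv_mul_eq_one.1 e).symm)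
    · rw [Subgroup.coe_mul, mul_smul, h1, Subgroup.coe_inv, inv_smul_smul]
  have : orderOf (s : X) = orderOf (t : X) := by
    rw [← congrArg Subtype.val hconj]
    exact orderOf_injective (MulAut.conj u).toMonoidHom (MulAut.conj u).injective (s : X) |>.symm
  rw [Subgroup.orderOf_coe, Subgroup.orderOf_coe, hs, ht] at this
  omega


/-- Restriction to a normal subgroup of index two. -/
theorem Act.restrict (h : Act X Ω) {T : Subgroup X} (hT : T.index = 2) : Act T Ω := by
  classical
  have hTn : T.Normal := Subgroup.normal_of_index_eq_two hT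
  haveI := h.faithful
  haveI := h.trans
  have hmem : ∀ a : Ω, ∀ P : Subgroup X, Nat.card P = 17 → P ≤ stabilizer X a → P ≤ T := by
    intro a P hP _ u hu
    have h2 := Subgroup.pow_index_mem (H := T) u
    rw [hT] at h2
    have h17 : u ^ 17 = 1 := by
      have := pow_card_eq_one' (x := (⟨u, hu⟩ : P))
      rw [hP] at this
      exact congrArg Subtype.val this
    have : u = u ^ 17 * ((u ^ 2) ^ 8)⁻¹ := by group
    rw [this, h17, one_mul]
    exact T.inv_mem (T.pow_mem h2 8)
  refine ⟨⟨fun {g k} e => Subtype.ext (FaithfulSMul.eq_of_smul_eq_smul fun x : Ω => e x)⟩, h.card, ?_, ?_⟩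
  · refine ⟨fun x y => ?_⟩
    by_cases hxy : x = y
    · exact ⟨1, by rw [hxy, one_smul]⟩
    obtain ⟨c, hcx, hcy⟩ : ∃ c : Ω, c ≠ x ∧ c ≠ y := by
      by_contra hcon
      push Not at hcon
      have hsub : (Set.univ : Set Ω) ⊆ {x, y} := fun z _ => by
        by_cases hz : z = x
        · exact Or.inl hz
        · exact Or.inr (hcon z hz)
      have := Set.ncard_le_ncard hsub (Set.toFinite _)
      rw [Set.ncard_univ, Set.ncard_pair hxy, h.card] at this
      omega
    obtain ⟨P, hP, hle, -⟩ := h.ker c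
    obtain ⟨u, hu, huy⟩ := (h.regular hP hle).2 x y hcx.symm hcy.symm
    exact ⟨⟨u, hmem c P hP hle hu⟩, huy⟩
  · intro a
    obtain ⟨P, hP, hle, hn⟩ := h.ker a
    refine ⟨P.subgroupOf T, ?_, fun g hg => hle hg, fun g hg u hu => hn g hg u hu⟩
    rw [Nat.card_congr (Subgroup.subgroupOfEquivOfLe (hmem a P hP hle)).toEquiv, hP]

theorem pslEquiv_of_card_eq {K F : Type*} [Field K] [Fintype K] [Field F] [Fintype F]
    (h : Fintype.card K = Fintype.card F) :
    Nonempty (Matrix.ProjectiveSpecialLinearGroup (Fin 2) K ≃*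
      Matrix.ProjectiveSpecialLinearGroup (Fin 2) F) := by
  have r : K ≃+* F := FiniteField.ringEquivOfCardEq h
  let m : Matrix.SpecialLinearGroup (Fin 2) K ≃* Matrix.SpecialLinearGroup (Fin 2) F :=
    { toFun := Matrix.SpecialLinearGroup.map r.toRingHom
      invFun := Matrix.SpecialLinearGroup.map r.symm.toRingHom
      left_inv := fun A => by ext i j; simp
      right_inv := fun A => by ext i j; simp
      map_mul' := fun A B => map_mul _ A B }
  exact ⟨QuotientGroup.congr _ _ m (by
    ext x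
    simp only [Subgroup.mem_map, Subgroup.mem_center_iff]
    constructor
    · rintro ⟨y, hy, rfl⟩ g
      obtain ⟨g, rfl⟩ := m.surjective g
      show m g * m y = m y * m g
      rw [← map_mul, hy g, map_mul]
    · intro hx
      refine ⟨m.symm x, fun g => m.injective ?_, m.apply_symm_apply x⟩
      rw [map_mul, map_mul, m.apply_symm_apply]
      exact hx _)⟩

theorem pglEquiv_of_card_eq {K F : Type*} [Field K] [Fintype K] [Field F] [Fintype F]
    (h : Fintype.card K = Fintype.card F) :
    Nonempty (Matrix.ProjGenLinGroup (Fin 2) K ≃* Matrix.ProjGenLinGroup (Fin 2) F) := by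
  have r : K ≃+* F := FiniteField.ringEquivOfCardEq h
  let m : GL (Fin 2) K ≃* GL (Fin 2) F :=
    Units.mapEquiv (RingEquiv.mapMatrix (m := Fin 2) r).toMulEquiv
  exact ⟨QuotientGroup.congr _ _ m (by
    ext x
    simp only [Subgroup.mem_map, Subgroup.mem_center_iff]
    constructor
    · rintro ⟨y, hy, rfl⟩ g
      obtain ⟨g, rfl⟩ := m.surjective g
      show m g * m y = m y * m g
      rw [← map_mul, hy g, map_mul]
    · intro hx
      refine ⟨m.symm x, fun g => m.injective ?_, m.apply_symm_apply x⟩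
      rw [map_mul, map_mul, m.apply_symm_apply]
      exact hx _)⟩

/-- The recognition. -/
theorem Act.cases (h : Act X Ω) {F : Type*} [Field F] [Fintype F] (hF : Fintype.card F = 17) :
    (Nat.card X = 2448 ∧ Nonempty (X ≃* Matrix.ProjectiveSpecialLinearGroup (Fin 2) F)) ∨
      (Nat.card X = 4896 ∧ Nonempty (X ≃* Matrix.ProjGenLinGroup (Fin 2) F)) := by
  classical
  haveI : Fintype Ω := Fintype.ofFinite Ω
  haveI := h.faithful
  haveI := h.trans
  have hΩ : Fintype.card Ω = 18 := by rw [← Nat.card_eq_fintype_card, h.card]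
  obtain ⟨a, b, hab⟩ := Fintype.exists_pair_of_one_lt_card (α := Ω) (by omega)
  obtain ⟨hd, hX⟩ := h.card_eq hab
  obtain ⟨d, hdd⟩ : ∃ d, d = Nat.card ↥(stabilizer X a ⊓ stabilizer X b) := ⟨_, rfl⟩
  rw [← hdd] at hd hX
  have hd16 : d = 1 ∨ d = 2 ∨ d = 4 ∨ d = 8 ∨ d = 16 := by
    obtain ⟨j, hj, rfl⟩ := (Nat.dvd_prime_pow Nat.prime_two).1 (show d ∣ 2 ^ 4 by simpa using hd)
    interval_cases j <;> simp
  by_cases h1 : d = 1
  · exfalso
    haveI : Fact (Nat.Prime 2) := ⟨by norm_num⟩
    let S : Sylow 2 X := default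
    have hS : Nat.card (S : Subgroup X) = 2 := by
      rw [S.card_eq_multiplicity, hX, h1]
      rw [show (306 * 1 : ℕ) = 2 ^ 1 * 153 by norm_num,
        Nat.factorization_mul (by norm_num) (by norm_num)]
      simp [Nat.factorization_eq_zero_of_not_dvd (show ¬ 2 ∣ 153 by norm_num),
        Nat.Prime.factorization_self Nat.prime_two]
    obtain ⟨T, hT⟩ := CfsgLib.Invol.exists_index_two_of_cyclic (G := X)
      (by rw [hX, h1]; decide) S (isCyclic_of_prime_card hS)
    have hT' := h.restrict hT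
    haveI := hT'.trans
    have h18 : 18 ∣ Nat.card T := by
      rw [← (stabilizer T a).index_mul_card, index_stabilizer_of_transitive, h.card]
      exact Dvd.intro _ rfl
    have hTc := T.card_mul_index
    rw [hT, hX, h1] at hTc
    omega
  have hZ := h.zassenhaus hab (by omega)
  by_cases h16 : d = 16
  · right
    refine ⟨by omega, ?_⟩
    let f : X →* Equiv.Perm Ω := MulAction.toPermHom X Ω
    have hf : Function.Injective f := MulAction.toPerm_injective
    have hsharp : ∀ x : Fin 3 ↪ Ω, stabilizer f.range x = ⊥ := by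
      intro e
      rw [eq_bot_iff]
      rintro ⟨_, g, rfl⟩ hg
      rw [Subgroup.mem_bot]
      have hgi : ∀ i, g • e i = e i := fun i =>
        congrArg (fun k : Fin 3 ↪ Ω => k i) (mem_stabilizer_iff.1 hg)
      have : g = 1 := h.three (e.injective.ne (by decide : (0 : Fin 3) ≠ 1))
        (e.injective.ne (by decide : (1 : Fin 3) ≠ 2)) (e.injective.ne (by decide : (0 : Fin 3) ≠ 2))
        (hgi 0) (hgi 1) (hgi 2)
      exact Subtype.ext (by subst this; exact map_one f)
    have key : ∀ w z : Ω, w ≠ a → w ≠ b → z ≠ a → z ≠ b →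
        ∃ g : X, g • a = a ∧ g • b = b ∧ g • w = z := by
      intro w z hwa hwb hza hzb
      let k : ↥(stabilizer X a ⊓ stabilizer X b) → ({a, b}ᶜ : Set Ω) := fun g => ⟨(g : X) • w, by
        rintro (e | e)
        · exact hwa (smul_left_cancel (g : X) (e.trans g.2.1.symm))
        · exact hwb (smul_left_cancel (g : X) ((Set.mem_singleton_iff.1 e).trans g.2.2.symm))⟩
      have hk : Function.Injective k := fun g g' e => by
        have e' : (g : X) • w = (g' : X) • w := congrArg Subtype.val e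
        have := h.three (g := (g' : X)⁻¹ * g) hab hwb.symm hwa.symm
          (((g'⁻¹ * g) : ↥(stabilizer X a ⊓ stabilizer X b)).2.1)
          (((g'⁻¹ * g) : ↥(stabilizer X a ⊓ stabilizer X b)).2.2) (by rw [mul_smul, e', inv_smul_smul])
        exact Subtype.ext (inv_mul_eq_one.1 this).symm
      obtain ⟨-, hs⟩ := (Nat.bijective_iff_injective_and_card k).2 ⟨hk, by
        rw [← hdd, h16, Nat.card_coe_set_eq, Set.ncard_compl, Set.ncard_pair hab, h.card]⟩
      obtain ⟨g, hg⟩ := hs ⟨z, by rintro (e | e); exacts [hza e, hzb e]⟩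
      exact ⟨g, g.2.1, g.2.2, congrArg Subtype.val hg⟩
    have h3 : IsMultiplyPretransitive f.range Ω 3 := by
      have hto : ∀ e : Fin 3 ↪ Ω, ∀ z : Ω, z ≠ a → z ≠ b →
          ∃ g : X, g • e 0 = a ∧ g • e 1 = b ∧ g • e 2 = z := by
        intro e z hza hzb
        obtain ⟨g, hg0, hg1⟩ := MulAction.is_two_pretransitive_iff.1 h.two
          (e.injective.ne (by decide : (0 : Fin 3) ≠ 1)) hab
        obtain ⟨k, hka, hkb, hk⟩ := key (g • e 2) z
          (fun e' => e.injective.ne (by decide : (2 : Fin 3) ≠ 0) (smul_left_cancel g (e'.trans hg0.symm)))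
          (fun e' => e.injective.ne (by decide : (2 : Fin 3) ≠ 1) (smul_left_cancel g (e'.trans hg1.symm)))
          hza hzb
        exact ⟨k * g, by rw [mul_smul, hg0, hka], by rw [mul_smul, hg1, hkb], by rw [mul_smul, hk]⟩
      obtain ⟨z, hza, hzb⟩ : ∃ z : Ω, z ≠ a ∧ z ≠ b := by
        by_contra hcon
        push Not at hcon
        have : (Finset.univ : Finset Ω).card ≤ ({a, b} : Finset Ω).card :=
          Finset.card_le_card fun x _ => by
            by_cases hx : x = a
            · simp [hx]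
            · simp [hcon x hx]
        rw [Finset.card_univ, hΩ, Finset.card_pair hab] at this
        omega
      refine ⟨fun e₁ e₂ => ?_⟩
      obtain ⟨g₁, h10, h11, h12⟩ := hto e₁ z hza hzb
      obtain ⟨g₂, h20, h21, h22⟩ := hto e₂ z hza hzb
      refine ⟨⟨f (g₂⁻¹ * g₁), _, rfl⟩, ?_⟩
      ext i
      show (g₂⁻¹ * g₁) • e₁ i = e₂ i
      rw [mul_smul, inv_smul_eq_iff]
      fin_cases i
      · exact h10.trans h20.symm
      · exact h11.trans h21.symm
      · exact h12.trans h22.symm
    obtain ⟨K, hK, hKf, hKc, ⟨e⟩⟩ := Cfsg.Agent.S0730.result (p := 17) (f := 1) (by norm_num) (by norm_num)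
      odd_one (by rw [hΩ]; norm_num) f.range h3 hsharp
    obtain ⟨e'⟩ := pglEquiv_of_card_eq (K := K) (F := F) (by rw [hKc, hF, pow_one])
    exact ⟨((MonoidHom.ofInjective hf).trans e).trans e'⟩
  · left
    obtain ⟨p, j, K, hK, hKf, hp, hp2, hKc, hpc, ⟨e⟩⟩ := CfsgLib.Perm.ZEven.iso_psl hZ hab
      (by rw [← hdd, even_iff_two_dvd]; omega) (by rw [← hdd, hΩ]; omega)
    obtain ⟨e'⟩ := pslEquiv_of_card_eq (K := K) (F := F) (by omega)
    refine ⟨?_, ⟨e.trans e'⟩⟩
    have h2 := CfsgLib.Char.TwoChars.card_psl_odd (F := F) (by rw [hF]; decide)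
    rw [hF] at h2
    rw [Nat.card_congr (e.trans e').toEquiv]
    omega

end CfsgLib.Char.SylSeventeen
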