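import Cfsg.Agent.Lib.Char.TwoByTwoTorus

/-!
# Sylow numbers of `PSL(2,17)` from its element orders
-/

set_option autoImplicit false
set_option linter.all false

namespace CfsgLib.Char.SylSeventeen

open CfsgLib.Char.TwoByTwo CfsgLib.PSL2Two

variable {T : Type*} [Group T] [Finite T] {F : Type*} [Field F] [Fintype F]

theorem psl_orders (hF : Fintype.card F = 17) (e : T ≃* Matrix.ProjectiveSpecialLinearGroup (Fin 2) F) :
    (∀ g : T, orderOf g ∣ 17 ∨ orderOf g ∣ 8 ∨ orderOf g ∣ 9) ∧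
      (∃ g : T, orderOf g = 8) ∧ ∃ g : T, orderOf g = 9 := by
  haveI : Fact (Nat.Prime 17) := ⟨by norm_num⟩
  haveI : CharP F 17 := charP_of_card_eq_prime hF
  have hodd : Fintype.card F % 2 = 1 := by rw [hF]
  refine ⟨fun g => ?_, ?_, ?_⟩
  · rw [← orderOf_injective e.toMonoidHom e.injective g]
    rcases psl_pow_cases hodd (p := 17) (e g) with h | h | h
    · exact Or.inl (orderOf_dvd_of_pow_eq_one h)
    · rw [hF] at h; exact Or.inr (Or.inl (orderOf_dvd_of_pow_eq_one h))
    · rw [hF] at h; exact Or.inr (Or.inr (orderOf_dvd_of_pow_eq_one h))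
  · obtain ⟨u, h, hu⟩ := exists_psl_split_torus (F := F) hodd (by omega)
    rw [hF] at hu
    exact ⟨e.symm _, (orderOf_injective e.symm.toMonoidHom e.symm.injective _).trans hu⟩
  · obtain ⟨ε, -, hε⟩ := exists_nonsquare (F := F) hodd
    haveI := hε
    obtain ⟨u, h, hu⟩ := exists_psl_torus (F := F) (ε := ε) hodd (by omega)
    rw [hF] at hu
    exact ⟨e.symm _, (orderOf_injective e.symm.toMonoidHom e.symm.injective _).trans hu⟩

theorem not_commute (ho : ∀ g : T, orderOf g ∣ 17 ∨ orderOf g ∣ 8 ∨ orderOf g ∣ 9) {x w : T} {r s : ℕ}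
    (hx : orderOf x = r) (hw : orderOf w = s) (hc : Commute x w) (hco : r.Coprime s)
    (h17 : ¬ r * s ∣ 17) (h8 : ¬ r * s ∣ 8) (h9 : ¬ r * s ∣ 9) : False := by
  have h := hc.orderOf_mul_eq_mul_orderOf_of_coprime (by rw [hx, hw]; exact hco)
  rw [hx, hw] at h
  rcases ho (x * w) with h' | h' | h' <;> rw [h] at h'
  exacts [h17 h', h8 h', h9 h']

theorem card_sylow_three (hT : Nat.card T = 2448)
    (ho : ∀ g : T, orderOf g ∣ 17 ∨ orderOf g ∣ 8 ∨ orderOf g ∣ 9) (h9 : ∃ g : T, orderOf g = 9)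
    (hn : Nat.card (Sylow 3 T) ∣ 136) : Nat.card (Sylow 3 T) = 136 := by
  classical
  haveI : Fact (Nat.Prime 3) := ⟨by norm_num⟩
  haveI : Fact (Nat.Prime 17) := ⟨by norm_num⟩
  haveI : Fact (Nat.Prime 2) := ⟨by norm_num⟩
  obtain ⟨x, hx⟩ := h9
  obtain ⟨P, hP⟩ := (IsPGroup.of_card (n := 2) (by rw [Nat.card_zpowers, hx]; norm_num) :
    IsPGroup 3 (Subgroup.zpowers x)).exists_le_sylow
  have hPeq : (P : Subgroup T) = Subgroup.zpowers x := by
    refine (Subgroup.eq_of_le_of_card_ge hP ?_).symm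
    rw [Nat.card_zpowers, hx, P.card_eq_multiplicity, hT,
      show (2448 : ℕ) = 3 ^ 2 * 272 by norm_num, Nat.factorization_mul (by norm_num) (by norm_num),
      Nat.prime_three.factorization_pow]
    simp [Nat.factorization_eq_zero_of_not_dvd (show ¬ 3 ∣ 272 by norm_num)]
  set N := Subgroup.normalizer ((P : Subgroup T) : Set T) with hN
  have hNn : Nat.card (Sylow 3 T) * Nat.card N = 2448 := by
    rw [P.card_eq_index_normalizer, ← hT]
    exact Subgroup.index_mul_card N
  have hres : ∀ u ∈ N, ∃ k < 9, u * x * u⁻¹ = x ^ k ∧ Nat.Coprime k 9 := by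
    intro u hu
    have h1 : u * x * u⁻¹ ∈ Subgroup.zpowers x := by
      rw [← hPeq]
      exact (Subgroup.mem_normalizer_iff.1 hu x).1 (hPeq ▸ Subgroup.mem_zpowers x)
    obtain ⟨k, hk⟩ := (isOfFinOrder_of_finite x).mem_powers_iff_mem_zpowers.2 h1
    refine ⟨k % 9, Nat.mod_lt _ (by norm_num), ?_, ?_⟩
    · rw [← hk]
      show x ^ k = x ^ (k % 9)
      rw [← hx, pow_mod_orderOf]
    · have h2 : orderOf (x ^ k) = 9 := by
        rw [show x ^ k = u * x * u⁻¹ from hk,
          show u * x * u⁻¹ = MulAut.conj u x from rfl,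
          ← hx]
        exact orderOf_injective (MulAut.conj u).toMonoidHom (MulAut.conj u).injective x
      rw [orderOf_pow, hx] at h2
      have hg : Nat.gcd 9 k = 1 := by
        have hd := Nat.gcd_dvd_left 9 k
        have := Nat.eq_mul_of_div_eq_left hd h2
        omega
      rw [Nat.coprime_iff_gcd_eq_one, ← Nat.gcd_rec, hg]
  have hne17 : ∀ y ∈ N, orderOf y ≠ 17 := by
    intro y hy hyo
    obtain ⟨k, hk9, hk, -⟩ := hres y hy
    have key : ∀ j : ℕ, y ^ j * x * (y ^ j)⁻¹ = x ^ (k ^ j) := by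
      intro j
      induction j with
      | zero => simp
      | succ j ih =>
        rw [pow_succ' y, pow_succ k, pow_mul, ← ih, conj_pow, ← hk]
        have : y ^ j * (y * x * y⁻¹) * (y ^ j)⁻¹ = y * y ^ j * x * (y * y ^ j)⁻¹ := by
          rw [(Commute.self_pow y j).eq]; group
        exact this.symm
    have h := key 17
    rw [← hyo, pow_orderOf_eq_one, one_mul, inv_one, mul_one, hyo] at h
    have h' : k ^ 17 % 9 = 1 % 9 := by
      have := pow_eq_pow_iff_modEq.1 (show x ^ (k ^ 17) = x ^ 1 by rw [← h, pow_one])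
      rw [hx] at this; exact this
    have hk1 : k = 1 := by interval_cases k <;> first | rfl | (norm_num at h')
    rw [hk1, pow_one] at hk
    exact not_commute ho hx hyo (mul_inv_eq_iff_eq_mul.1 hk).symm (by norm_num) (by norm_num) (by norm_num)
      (by norm_num)
  have hnd : Nat.card (Sylow 3 T) ∈ Nat.divisors 136 := Nat.mem_divisors.2 ⟨hn, by norm_num⟩
  have hmod : Nat.card (Sylow 3 T) % 3 = 1 := card_sylow_modEq_one 3 T
  rw [show Nat.divisors 136 = {1, 2, 4, 8, 17, 34, 68, 136} from by decide +kernel] at hnd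
  by_contra hcon
  have h17 : ¬ 17 ∣ Nat.card N := fun hd => by
    obtain ⟨y, hy⟩ := exists_prime_orderOf_dvd_card' (G := N) 17 hd
    exact hne17 y y.2 (by rw [Subgroup.orderOf_coe, hy])
  simp only [Finset.mem_insert, Finset.mem_singleton] at hnd
  have h34 : Nat.card N = 72 := by
    rcases hnd with h | h | h | h | h | h | h | h <;> rw [h] at hNn hmod <;>
      first
      | omega
      | exact absurd (show 17 ∣ Nat.card N by omega) h17
  let U : Sylow 2 N := default
  have hU : Nat.card (U : Subgroup N) = 8 := by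
    rw [U.card_eq_multiplicity, h34,
      show (72 : ℕ) = 2 ^ 3 * 9 by norm_num, Nat.factorization_mul (by norm_num) (by norm_num),
      Nat.prime_two.factorization_pow]
    simp [Nat.factorization_eq_zero_of_not_dvd (show ¬ 2 ∣ 9 by norm_num)]
  choose f hf9 hf hfc using fun u : (U : Subgroup N) => hres ((u : N) : T) (u : N).2
  let g : ↥(U : Subgroup N) → ({1, 2, 4, 5, 7, 8} : Finset ℕ) := fun u => ⟨f u, by
    have h1 := hf9 u
    have h2 := hfc u
    generalize f u = k at h1 h2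
    interval_cases k <;> first | decide | exact absurd h2 (by decide)⟩
  obtain ⟨u, v, huv, he⟩ : ∃ u v : (U : Subgroup N), u ≠ v ∧ g u = g v := by
    by_contra hcon'
    push Not at hcon'
    have := Nat.card_le_card_of_injective g fun a b hab => by
      by_contra hne; exact hcon' a b hne hab
    rw [hU, Nat.card_eq_fintype_card, Fintype.card_coe] at this
    norm_num at this
  have he' : f u = f v := congrArg Subtype.val he
  set w : T := ((v : N) : T)⁻¹ * ((u : N) : T) with hw
  have hcomm : Commute x w := by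
    have e1 : ((u : N) : T) * x * ((u : N) : T)⁻¹ = ((v : N) : T) * x * ((v : N) : T)⁻¹ := by
      rw [hf u, hf v, he']
    have e2 : w * x * w⁻¹ = x := by
      have : w * x * w⁻¹ = ((v : N) : T)⁻¹ * (((u : N) : T) * x * ((u : N) : T)⁻¹) * ((v : N) : T) := by
        rw [hw]; group
      rw [this, e1]; group
    exact (mul_inv_eq_iff_eq_mul.1 e2).symm
  have hw1 : (v⁻¹ * u : (U : Subgroup N)) ≠ 1 := fun e => huv (inv_mul_eq_one.1 e).symm
  have hwo : orderOf w = orderOf (v⁻¹ * u : (U : Subgroup N)) := by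
    rw [← Subgroup.orderOf_coe (v⁻¹ * u), ← Subgroup.orderOf_coe ((v⁻¹ * u : (U : Subgroup N)) : N)]
    rfl
  have h8 : orderOf w ∣ 2 ^ 3 := by rw [hwo, show (2 : ℕ) ^ 3 = 8 from rfl, ← hU]; exact orderOf_dvd_natCard _
  obtain ⟨j, hj, hjo⟩ := (Nat.dvd_prime_pow Nat.prime_two).1 h8
  have hj1 : j ≠ 0 := by
    rintro rfl
    rw [pow_zero, hwo, orderOf_eq_one_iff] at hjo
    exact hw1 hjo
  refine not_commute ho hx hjo hcomm ?_ ?_ ?_ ?_ <;> interval_cases j <;> first | omega | norm_num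

theorem card_sylow_two (hT : Nat.card T = 2448)
    (ho : ∀ g : T, orderOf g ∣ 17 ∨ orderOf g ∣ 8 ∨ orderOf g ∣ 9) (h8 : ∃ g : T, orderOf g = 8)
    (hn : Nat.card (Sylow 2 T) ∣ 153) : Nat.card (Sylow 2 T) = 153 := by
  classical
  haveI : Fact (Nat.Prime 2) := ⟨by norm_num⟩
  obtain ⟨y, hy⟩ := h8
  obtain ⟨P, hP⟩ := (IsPGroup.of_card (n := 3) (by rw [Nat.card_zpowers, hy]; norm_num) :
    IsPGroup 2 (Subgroup.zpowers y)).exists_le_sylow
  have hPc : Nat.card (P : Subgroup T) = 16 := by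
    rw [P.card_eq_multiplicity, hT,
      show (2448 : ℕ) = 2 ^ 4 * 153 by norm_num, Nat.factorization_mul (by norm_num) (by norm_num),
      Nat.prime_two.factorization_pow]
    simp [Nat.factorization_eq_zero_of_not_dvd (show ¬ 2 ∣ 153 by norm_num)]
  set N := Subgroup.normalizer ((P : Subgroup T) : Set T) with hN
  have hNn : Nat.card (Sylow 2 T) * Nat.card N = 2448 := by
    rw [P.card_eq_index_normalizer, ← hT]
    exact Subgroup.index_mul_card N
  have hidx : ((Subgroup.zpowers y).subgroupOf (P : Subgroup T)).index = 2 := by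
    have := Subgroup.relIndex_mul_relIndex ⊥ (Subgroup.zpowers y) (P : Subgroup T) bot_le hP
    rw [Subgroup.relIndex_bot_left, Subgroup.relIndex_bot_left, Nat.card_zpowers, hy, hPc] at this
    show (Subgroup.zpowers y).relIndex (P : Subgroup T) = 2
    omega
  have hfour : ∀ w ∈ (P : Subgroup T), orderOf w = 8 → w ^ 4 = y ^ 4 := by
    intro w hw hwo
    haveI := Subgroup.normal_of_index_eq_two hidx
    have h2 := Subgroup.pow_index_mem (H := (Subgroup.zpowers y).subgroupOf (P : Subgroup T)) ⟨w, hw⟩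
    rw [hidx] at h2
    obtain ⟨i, hi⟩ := (isOfFinOrder_of_finite y).mem_powers_iff_mem_zpowers.2
      (show w ^ 2 ∈ Subgroup.zpowers y from h2)
    have hi' : y ^ i = w ^ 2 := hi
    have h4 : w ^ 4 = y ^ (2 * i) := by
      rw [show (4 : ℕ) = 2 * 2 from rfl, pow_mul w, ← hi', ← pow_mul, mul_comm i]
    have hne : w ^ 4 ≠ 1 := fun e => by
      have := orderOf_dvd_of_pow_eq_one e
      rw [hwo] at this; norm_num at this
    have hsq : y ^ (2 * i * 2) = 1 := by
      rw [pow_mul, ← h4, ← pow_mul, show 4 * 2 = 8 from rfl, ← hwo, pow_orderOf_eq_one]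
    have d1 := orderOf_dvd_of_pow_eq_one hsq
    rw [hy] at d1
    have d2 : ¬ 8 ∣ 2 * i := fun hd => hne (by rw [h4, orderOf_dvd_iff_pow_eq_one.1 (hy.symm ▸ hd)])
    rw [h4, ← pow_mod_orderOf, hy]
    congr 1
    omega
  have hz : orderOf (y ^ 4) = 2 := by rw [orderOf_pow, hy]; rfl
  have hno : ∀ r, r = 3 ∨ r = 17 → ∀ u ∈ N, orderOf u ≠ r := by
    intro r hr u hu huo
    have h1 : u * y * u⁻¹ ∈ (P : Subgroup T) :=
      (Subgroup.mem_normalizer_iff.1 hu y).1 (hP (Subgroup.mem_zpowers y))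
    have h2 := hfour _ h1 (by
      rw [show u * y * u⁻¹ = MulAut.conj u y from rfl, ← hy]
      exact orderOf_injective (MulAut.conj u).toMonoidHom (MulAut.conj u).injective y)
    rw [conj_pow] at h2
    refine not_commute ho hz huo (mul_inv_eq_iff_eq_mul.1 h2).symm ?_ ?_ ?_ ?_ <;>
      rcases hr with rfl | rfl <;> norm_num
  by_contra hcon
  have hnd : Nat.card (Sylow 2 T) ∈ Nat.divisors 153 := Nat.mem_divisors.2 ⟨hn, by norm_num⟩
  rw [show Nat.divisors 153 = {1, 3, 9, 17, 51, 153} from by decide +kernel] at hnd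
  simp only [Finset.mem_insert, Finset.mem_singleton] at hnd
  have h317 : 3 ∣ Nat.card N ∨ 17 ∣ Nat.card N := by
    rcases hnd with h | h | h | h | h | h <;> rw [h] at hNn <;> omega
  rcases h317 with hd | hd
  · haveI : Fact (Nat.Prime 3) := ⟨by norm_num⟩
    obtain ⟨u, hu⟩ := exists_prime_orderOf_dvd_card' (G := N) 3 hd
    exact hno 3 (Or.inl rfl) u u.2 (by rw [Subgroup.orderOf_coe, hu])
  · haveI : Fact (Nat.Prime 17) := ⟨by norm_num⟩
    obtain ⟨u, hu⟩ := exists_prime_orderOf_dvd_card' (G := N) 17 hd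
    exact hno 17 (Or.inr rfl) u u.2 (by rw [Subgroup.orderOf_coe, hu])

end CfsgLib.Char.SylSeventeen
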