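import Cfsg.Agent.Lib.Char.SylSeventeen.Recog
import Cfsg.Agent.Lib.Char.SylSeventeen.Orders
import Cfsg.Agent.Lib.PGroup.SylowNumber
import Cfsg.Agent.Lib.Coprime.Solvable
import Cfsg.Agent.Lib.Char.Burnside
import Cfsg.Agent.S4345
import Cfsg.Agent.S0307

/-!
# Groups with the Sylow numbers of `PSL(2,17)`
-/

set_option autoImplicit false
set_option linter.all false

namespace CfsgLib.Char.SylSeventeen

open Subgroup CfsgLib.PGroup.SylowNum

theorem card_sylow_normal_dvd {G : Type*} [Group G] [Finite G] (r : ℕ) [Fact r.Prime] (N : Subgroup G)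
    [N.Normal] : Nat.card (Sylow r N) ∣ Nat.card (Sylow r G) := by
  let S : Sylow r N := default
  obtain ⟨P, hP⟩ := (S.2.map N.subtype).exists_le_sylow
  have hPN : (P : Subgroup G) ⊓ N = (S : Subgroup N).map N.subtype := by
    refine le_antisymm (fun x hx => ?_) (le_inf hP (map_subtype_le _))
    have hsub : (S : Subgroup N) ≤ (P : Subgroup G).comap N.subtype := fun w hw =>
      hP (mem_map_of_mem _ hw)
    have heq := S.is_maximal' (P.2.comap_of_injective N.subtype Subtype.coe_injective) hsub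
    exact ⟨⟨x, hx.2⟩, heq ▸ (show (⟨x, hx.2⟩ : N) ∈ (P : Subgroup G).comap N.subtype from hx.1), rfl⟩
  have hle : normalizer ((P : Subgroup G) : Set G) ≤
      normalizer (((S : Subgroup N).map N.subtype : Subgroup G) : Set G) := by
    intro g hg
    rw [← hPN, mem_normalizer_iff]
    intro x
    rw [mem_inf, mem_inf, mem_normalizer_iff.1 hg x]
    refine and_congr_right fun _ => ⟨fun h => Normal.conj_mem inferInstance x h g, fun h => ?_⟩
    have := Normal.conj_mem (inferInstance : N.Normal) _ h g⁻¹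
    simpa [mul_assoc] using this
  have hN : Nat.card (Sylow r N) =
      (normalizer (((S : Subgroup N).map N.subtype : Subgroup G) : Set G)).index := by
    have h0 : (normalizer (((S : Subgroup N).map N.subtype : Subgroup G) : Set G)).relIndex N =
        (normalizer (((S : Subgroup N).map N.subtype : Subgroup G) : Set G)).index := by
      rw [← relIndex_sup_normal, Sylow.normalizer_sup_eq_top S, relIndex_top_right]
    rw [← h0, S.card_eq_index_normalizer]
    have h1 := subgroupOf_normalizer_eq (map_subtype_le (S : Subgroup N))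
    have h2 : ((S : Subgroup N).map N.subtype).subgroupOf N = S :=
      comap_map_eq_self_of_injective N.subtype_injective _
    rw [h2] at h1
    show _ = ((normalizer (((S : Subgroup N).map N.subtype : Subgroup G) : Set G)).subgroupOf N).index
    rw [h1]
    rfl
  rw [hN, card_sylow_eq P]
  exact index_dvd_of_le hle

theorem card_sylow_quotient_dvd {G : Type*} [Group G] [Finite G] (r : ℕ) [Fact r.Prime] (N : Subgroup G)
    [N.Normal] : Nat.card (Sylow r (G ⧸ N)) ∣ Nat.card (Sylow r G) :=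
  ⟨_, card_sylow_quotient_mul (default : Sylow r G) N⟩

theorem normal_of_card_sylow_one {G : Type*} [Group G] [Finite G] {r : ℕ} [Fact r.Prime] (P : Sylow r G)
    (h : Nat.card (Sylow r G) = 1) : (P : Subgroup G).Normal := by
  rw [card_sylow_eq P, index_eq_one] at h
  exact normalizer_eq_top_iff.1 h

variable {G : Type*} [Group G] [Finite G]

/-- The numerical hypothesis. -/
def Bound (G : Type*) [Group G] : Prop :=
  ∀ r, r.Prime → r ∣ Nat.card G →
    (r = 17 ∧ Nat.card (Sylow r G) = 18) ∨ (r = 3 ∧ Nat.card (Sylow r G) = 136) ∨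
    (r = 5 ∧ Nat.card (Sylow r G) = 136) ∨ (r = 2 ∧ Nat.card (Sylow r G) = 153) ∨
    (r = 19 ∧ Nat.card (Sylow r G) = 153)

theorem seventeen_dvd (hB : Bound G) (R : Subgroup G) [R.Normal]
    (hrad : ∀ N : Subgroup (G ⧸ R), N.Normal → Group.IsSolvable N → N = ⊥)
    (N : Subgroup (G ⧸ R)) [N.Normal] (hN : N ≠ ⊥) : 17 ∣ Nat.card N := by
  by_contra h17
  have hX : ∀ r, r.Prime → r ∣ Nat.card N → r ∣ Nat.card G := fun r _ hr =>
    (hr.trans (card_subgroup_dvd_card N)).trans (card_quotient_dvd_card R)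
  have hchar : ∀ r, r.Prime → r ∣ Nat.card N → Nat.card (Sylow r N) ≠ 1 := by
    intro r hr hrN h1
    haveI := Fact.mk hr
    let S : Sylow r N := default
    haveI : (S : Subgroup N).Normal := normal_of_card_sylow_one S h1
    haveI : (S : Subgroup N).Characteristic := S.characteristic_of_normal inferInstance
    haveI : Group.IsNilpotent (S : Subgroup N) := S.2.isNilpotent
    have hmap : ((S : Subgroup N).map N.subtype).Normal :=
      ConjAct.normal_of_characteristic_of_normal
    have hsol : Group.IsSolvable ((S : Subgroup N).map N.subtype) :=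
      Group.isSolvable_of_isSolvable_injective (f := ((equivMapOfInjective (S : Subgroup N) N.subtype
        N.subtype_injective).symm.toMonoidHom)) (MulEquiv.injective _)
    have := hrad _ hmap hsol
    rw [map_eq_bot_iff_of_injective _ N.subtype_injective] at this
    exact S.ne_bot_of_dvd_card hrN this
  have key : ∀ r, r.Prime → r ∣ Nat.card N → r = 2 ∨ r = 3 := by
    intro r hr hrN
    haveI := Fact.mk hr
    have hmod : Nat.card (Sylow r N) % r = 1 % r := card_sylow_modEq_one r N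
    have hdvd := ((card_sylow_normal_dvd r N).trans (card_sylow_quotient_dvd r R))
    have hdN : Nat.card (Sylow r N) ∣ Nat.card N :=
      (Sylow.card_eq_index_normalizer (default : Sylow r N)) ▸ index_dvd_card _
    have hco : Nat.Coprime (Nat.card (Sylow r N)) 17 :=
      ((by norm_num : Nat.Prime 17).coprime_iff_not_dvd.2 fun h => h17 (h.trans hdN)).symm
    rcases hB r hr (hX r hr hrN) with ⟨rfl, -⟩ | ⟨rfl, -⟩ | ⟨rfl, hn⟩ | ⟨rfl, -⟩ | ⟨rfl, hn⟩
    · exact absurd hrN h17
    · exact Or.inr rfl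
    · exfalso
      rw [hn] at hdvd
      have h8 : Nat.card (Sylow 5 N) ∣ 2 ^ 3 := hco.dvd_of_dvd_mul_right (hdvd.trans (dvd_of_eq (by norm_num)))
      obtain ⟨j, hj, hjn⟩ := (Nat.dvd_prime_pow Nat.prime_two).1 h8
      rw [hjn] at hmod
      have := hchar 5 hr hrN
      rw [hjn] at this
      interval_cases j <;> simp_all
    · exact Or.inl rfl
    · exfalso
      rw [hn] at hdvd
      have h9 : Nat.card (Sylow 19 N) ∣ 3 ^ 2 := hco.dvd_of_dvd_mul_right (hdvd.trans (dvd_of_eq (by norm_num)))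
      obtain ⟨j, hj, hjn⟩ := (Nat.dvd_prime_pow Nat.prime_three).1 h9
      rw [hjn] at hmod
      have := hchar 19 hr hrN
      rw [hjn] at this
      interval_cases j <;> simp_all
  refine hN (hrad N inferInstance ?_)
  set n := Nat.card N with hn
  have hn0 : n ≠ 0 := Nat.card_pos.ne'
  refine CfsgLib.Char.isSolvable_of_card_two_primes Nat.prime_two Nat.prime_three N
    (n.factorization 2) (n.factorization 3) ?_
  have hsupp : n.factorization.support ⊆ {2, 3} := fun r hr => by
    rw [Nat.support_factorization, Nat.mem_primeFactors] at hr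
    rcases key r hr.1 hr.2.1 with rfl | rfl <;> simp
  refine hn.symm.trans ((Nat.prod_factorization_pow_eq_self hn0).symm.trans ?_)
  rw [Finsupp.prod_of_support_subset _ hsupp _ (fun i _ => pow_zero i), Finset.prod_pair (by norm_num)]

theorem recognise (hB : Bound G) (h17 : 17 ∣ Nat.card G) (hns : ¬ Group.IsSolvable G) (R : Subgroup G)
    [R.Normal] (hR : Group.IsSolvable R)
    (hrad : ∀ N : Subgroup (G ⧸ R), N.Normal → Group.IsSolvable N → N = ⊥)
    {F : Type*} [Field F] [Fintype F] (hF : Fintype.card F = 17) :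
    (∀ r, r.Prime → r ∣ Nat.card (G ⧸ R) → r = 2 ∨ r = 3 ∨ r = 17) ∧
    (∀ r, r.Prime → r ∣ Nat.card G → r = 2 ∨ r = 3 ∨ r = 17 →
      Nat.card (Sylow r (G ⧸ R)) = Nat.card (Sylow r G)) ∧
    (Nonempty (G ⧸ R ≃* Matrix.ProjectiveSpecialLinearGroup (Fin 2) F) ∨
      Nonempty (G ⧸ R ≃* Matrix.ProjGenLinGroup (Fin 2) F)) := by
  classical
  haveI : Fact (Nat.Prime 17) := ⟨by norm_num⟩
  haveI : Fact (Nat.Prime 3) := ⟨by norm_num⟩
  haveI : Fact (Nat.Prime 2) := ⟨by norm_num⟩
  have hn17 : Nat.card (Sylow 17 G) = 18 := by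
    rcases hB 17 (by norm_num) h17 with ⟨-, h⟩ | ⟨h, -⟩ | ⟨h, -⟩ | ⟨h, -⟩ | ⟨h, -⟩
    · exact h
    all_goals norm_num at h
  have htop : (⊤ : Subgroup (G ⧸ R)) ≠ ⊥ := by
    intro h
    haveI := hR
    haveI : Subsingleton (G ⧸ R) := ⟨fun x y => by
      have hx : x ∈ (⊥ : Subgroup (G ⧸ R)) := h ▸ mem_top x
      have hy : y ∈ (⊥ : Subgroup (G ⧸ R)) := h ▸ mem_top y
      rw [mem_bot] at hx hy; rw [hx, hy]⟩
    refine hns (Group.isSolvable_of_ker_le_range R.subtype (QuotientGroup.mk' R) ?_)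
    rw [QuotientGroup.ker_mk', range_subtype]
  have h17X : 17 ∣ Nat.card (G ⧸ R) := by
    have := seventeen_dvd hB R hrad ⊤ htop
    rwa [card_top] at this
  have hbot : ∀ M : Subgroup (G ⧸ R), M.Normal → IsPGroup 17 M → M = ⊥ := fun M hM hp => by
    haveI := hp.isNilpotent
    exact hrad M hM inferInstance
  have hnX : Nat.card (Sylow 17 (G ⧸ R)) = 18 := by
    have hd := card_sylow_quotient_dvd 17 R
    rw [hn17] at hd
    have hm : Nat.card (Sylow 17 (G ⧸ R)) % 17 = 1 := card_sylow_modEq_one 17 (G ⧸ R)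
    have h1 : Nat.card (Sylow 17 (G ⧸ R)) ≠ 1 := fun h1 => by
      let P : Sylow 17 (G ⧸ R) := default
      exact P.ne_bot_of_dvd_card h17X (hbot _ (normal_of_card_sylow_one P h1) P.2)
    have := Nat.le_of_dvd (by norm_num) hd
    omega
  let f : G ⧸ R →* Equiv.Perm (Sylow 17 (G ⧸ R)) := MulAction.toPermHom (G ⧸ R) (Sylow 17 (G ⧸ R))
  have hker : f.ker = ⊥ := by
    by_contra hK
    obtain ⟨u, hu⟩ := exists_prime_orderOf_dvd_card' (G := f.ker) 17 (seventeen_dvd hB R hrad f.ker hK)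
    have huP : ∀ P : Sylow 17 (G ⧸ R), (u : G ⧸ R) ∈ (P : Subgroup (G ⧸ R)) := by
      intro P
      have hun : (u : G ⧸ R) ∈ normalizer ((P : Subgroup (G ⧸ R)) : Set (G ⧸ R)) :=
        Sylow.smul_eq_iff_mem_normalizer.1
          ((Equiv.ext_iff.1 (MonoidHom.mem_ker.1 u.2) P : (u : G ⧸ R) • P = P))
      have hp : IsPGroup 17 (zpowers (u : G ⧸ R)) := IsPGroup.of_card (n := 1)
        (by rw [Nat.card_zpowers, Subgroup.orderOf_coe, hu, pow_one])
      have h := hp.inf_normalizer_sylow P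
      exact ((le_inf le_rfl (zpowers_le.2 hun)).trans (h.le.trans inf_le_right)) (mem_zpowers _)
    let M : Subgroup (G ⧸ R) := ⨅ P : Sylow 17 (G ⧸ R), (P : Subgroup (G ⧸ R))
    have hM : M = ⊥ := hbot M ⟨fun x hx g => by
        rw [mem_iInf] at hx ⊢
        intro P
        have h := hx (g⁻¹ • P)
        rw [Sylow.smul_def, Sylow.pointwise_smul_def] at h
        obtain ⟨y, hy, hyx⟩ := h
        have : g⁻¹ * y * g = x := by simpa using hyx
        rw [← this]
        have hy' : y ∈ (P : Subgroup (G ⧸ R)) := hy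
        simpa [mul_assoc] using hy'⟩
      ((default : Sylow 17 (G ⧸ R)).2.to_le (iInf_le _ _))
    have hu1 : (u : G ⧸ R) ∈ M := mem_iInf.2 huP
    rw [hM, mem_bot, OneMemClass.coe_eq_one] at hu1
    rw [hu1, orderOf_one] at hu
    norm_num at hu
  have hinj : Function.Injective f := (MonoidHom.ker_eq_bot_iff f).1 hker
  have hPc : ∀ P : Sylow 17 (G ⧸ R), Nat.card (P : Subgroup (G ⧸ R)) = 17 := by
    intro P
    obtain ⟨k, hk⟩ := IsPGroup.iff_card.1 P.2
    have hd : 17 ^ k ∣ Nat.factorial 18 := by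
      rw [← hk, show Nat.factorial 18 = Nat.card (Equiv.Perm (Sylow 17 (G ⧸ R))) by rw [Nat.card_perm, hnX]]
      exact card_dvd_of_injective (f.comp (P : Subgroup (G ⧸ R)).subtype) (hinj.comp Subtype.coe_injective)
    have hk0 : k ≠ 0 := fun h => P.ne_bot_of_dvd_card h17X (card_eq_one.1 (by rw [hk, h, pow_zero]))
    have hk1 : k < 2 := by
      by_contra h
      have := (pow_dvd_pow 17 (show 2 ≤ k by omega)).trans hd
      revert this
      decide +kernel
    rw [hk, show k = 1 by omega, pow_one]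
  have hAct : Act (G ⧸ R) (Sylow 17 (G ⧸ R)) := by
    refine ⟨⟨fun {g k} e => hinj (Equiv.ext e)⟩, hnX, inferInstance, fun P => ⟨P, hPc P, ?_, ?_⟩⟩
    · rw [Sylow.stabilizer_eq_normalizer]; exact le_normalizer
    · intro g hg u hu
      rw [Sylow.stabilizer_eq_normalizer] at hg
      exact (mem_normalizer_iff.1 hg u).1 hu
  have sylow_numbers : ∀ {T : Type _} [Group T] [Finite T], Nat.card T = 2448 →
      (T ≃* Matrix.ProjectiveSpecialLinearGroup (Fin 2) F) →
      (∀ r, r.Prime → Nat.card (Sylow r T) ∣ Nat.card (Sylow r (G ⧸ R))) →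
      ∀ r, r.Prime → r ∣ Nat.card G → r = 2 ∨ r = 3 ∨ r = 17 →
        Nat.card (Sylow r (G ⧸ R)) = Nat.card (Sylow r G) := by
    intro T _ _ hT e hdvd r hr hrG hcase
    haveI := Fact.mk hr
    obtain ⟨ho, h8, h9⟩ := psl_orders hF e
    have hup := card_sylow_quotient_dvd r R
    rcases hcase with rfl | rfl | rfl
    · have h153 : Nat.card (Sylow 2 G) = 153 := by
        rcases hB 2 hr hrG with ⟨h, -⟩ | ⟨h, -⟩ | ⟨h, -⟩ | ⟨-, h⟩ | ⟨h, -⟩
        all_goals first | exact h | norm_num at h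
      rw [h153] at hup ⊢
      have := card_sylow_two hT ho h8 ((hdvd 2 hr).trans hup)
      exact Nat.dvd_antisymm hup (this ▸ hdvd 2 hr)
    · have h136 : Nat.card (Sylow 3 G) = 136 := by
        rcases hB 3 hr hrG with ⟨h, -⟩ | ⟨-, h⟩ | ⟨h, -⟩ | ⟨h, -⟩ | ⟨h, -⟩
        all_goals first | exact h | norm_num at h
      rw [h136] at hup ⊢
      have := card_sylow_three hT ho h9 ((hdvd 3 hr).trans hup)
      exact Nat.dvd_antisymm hup (this ▸ hdvd 3 hr)
    · rw [hnX, hn17]
  have primes : ∀ n, n ∣ 4896 → ∀ r, r.Prime → r ∣ n → r = 2 ∨ r = 3 ∨ r = 17 := by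
    intro n hn r hr hrn
    have h : r ∈ Nat.primeFactors 4896 := Nat.mem_primeFactors.2 ⟨hr, hrn.trans hn, by norm_num⟩
    rw [show Nat.primeFactors 4896 = {2, 3, 17} from by
      rw [show (4896 : ℕ) = 2 ^ 5 * (3 ^ 2 * 17) by norm_num,
        Nat.primeFactors_mul (by norm_num) (by norm_num), Nat.primeFactors_mul (by norm_num) (by norm_num),
        Nat.primeFactors_prime_pow (by norm_num) Nat.prime_two,
        Nat.primeFactors_prime_pow (by norm_num) Nat.prime_three,
        (by norm_num : Nat.Prime 17).primeFactors]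
      rfl] at h
    simpa using h
  rcases hAct.cases hF with ⟨hc, ⟨e⟩⟩ | ⟨hc, ⟨e⟩⟩
  · exact ⟨primes _ (by rw [hc]; norm_num), sylow_numbers hc e (fun r _ => dvd_rfl), Or.inl ⟨e⟩⟩
  · refine ⟨primes _ (by rw [hc]), ?_, Or.inr ⟨e⟩⟩
    obtain ⟨g, hg, -⟩ := Cfsg.Agent.S0307.result hF 2 (by norm_num)
    let φ := g.comp e.toMonoidHom
    have hφ : φ.ker.index = 2 := by
      have hs : Function.Surjective φ := hg.comp e.surjective
      rw [index_ker, MonoidHom.range_eq_top.2 hs, card_top, Nat.card_congr Multiplicative.toAdd,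
        Nat.card_zmod]
      rfl
    have hT : Nat.card φ.ker = 2448 := by
      have := φ.ker.card_mul_index
      rw [hφ, hc] at this
      omega
    rcases (hAct.restrict hφ).cases hF with ⟨-, ⟨e'⟩⟩ | ⟨hc', -⟩
    · exact sylow_numbers hT e' (fun r hr => by
        haveI := Fact.mk hr
        exact card_sylow_normal_dvd r φ.ker)
    · omega

theorem result (hZ : center G = ⊥)
    (hNS : {c : ℕ | ∃ r : ℕ, r.Prime ∧ r ∣ Nat.card G ∧ c = Nat.card (Sylow r G)} = ({18, 136, 153} : Set ℕ))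
    {F : Type*} [Field F] [Fintype F] (hF : Fintype.card F = 17) :
    Nonempty (G ≃* Matrix.ProjectiveSpecialLinearGroup (Fin 2) F) ∨
      Nonempty (G ≃* Matrix.ProjGenLinGroup (Fin 2) F) := by
  classical
  have hB : Bound G := by
    intro r hr hrG
    haveI := Fact.mk hr
    have hmem : Nat.card (Sylow r G) ∈ ({18, 136, 153} : Set ℕ) := hNS ▸ ⟨r, hr, hrG, rfl⟩
    have hmod : Nat.card (Sylow r G) % r = 1 % r := card_sylow_modEq_one r G
    have h1 : ∀ n, Nat.card (Sylow r G) = n → 0 < n → r ∣ n - 1 := fun n hn hn0 => by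
      rw [hn] at hmod
      exact (Nat.modEq_iff_dvd' hn0).1 hmod.symm
    have hfac : ∀ m, m ≠ 0 → r ∣ m → r ∈ m.primeFactors := fun m hm h => Nat.mem_primeFactors.2 ⟨hr, h, hm⟩
    simp only [Set.mem_insert_iff, Set.mem_singleton_iff] at hmem
    rcases hmem with hn | hn | hn
    · have := (Nat.prime_dvd_prime_iff_eq hr (by norm_num : Nat.Prime 17)).1 (h1 18 hn (by norm_num))
      exact Or.inl ⟨this, hn⟩
    · have h135 : r ∣ 3 ^ 3 * 5 := h1 136 hn (by norm_num)
      rcases hr.dvd_mul.1 h135 with h | h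
      · exact Or.inr (Or.inl ⟨(Nat.prime_dvd_prime_iff_eq hr Nat.prime_three).1 (hr.dvd_of_dvd_pow h), hn⟩)
      · exact Or.inr (Or.inr (Or.inl ⟨(Nat.prime_dvd_prime_iff_eq hr Nat.prime_five).1 h, hn⟩))
    · have h152 : r ∣ 2 ^ 3 * 19 := h1 153 hn (by norm_num)
      rcases hr.dvd_mul.1 h152 with h | h
      · exact Or.inr (Or.inr (Or.inr (Or.inl
          ⟨(Nat.prime_dvd_prime_iff_eq hr Nat.prime_two).1 (hr.dvd_of_dvd_pow h), hn⟩)))
      · exact Or.inr (Or.inr (Or.inr (Or.inr
          ⟨(Nat.prime_dvd_prime_iff_eq hr (by norm_num : Nat.Prime 19)).1 h, hn⟩)))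
  have h18 : (18 : ℕ) ∈ {c : ℕ | ∃ r : ℕ, r.Prime ∧ r ∣ Nat.card G ∧ c = Nat.card (Sylow r G)} := by
    rw [hNS]; exact Or.inl rfl
  obtain ⟨r₀, hr₀, hr₀G, hr₀n⟩ := h18
  have hr17 : r₀ = 17 := by
    rcases hB r₀ hr₀ hr₀G with ⟨h, -⟩ | ⟨-, h⟩ | ⟨-, h⟩ | ⟨-, h⟩ | ⟨-, h⟩
    · exact h
    all_goals rw [h] at hr₀n; norm_num at hr₀n
  subst hr17
  haveI : Fact (Nat.Prime 17) := ⟨hr₀⟩
  have hns : ¬ Group.IsSolvable G := by
    intro hs
    have h := Cfsg.Agent.S4345.result hs 17 2 Nat.prime_two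
    rw [← hr₀n, show (18 : ℕ) = 2 ^ 1 * 9 by norm_num, Nat.factorization_mul (by norm_num) (by norm_num),
      Nat.prime_two.factorization_pow] at h
    simp [Nat.factorization_eq_zero_of_not_dvd (show ¬ 2 ∣ 9 by norm_num), Nat.ModEq] at h
  obtain ⟨R, hRm⟩ := Set.Finite.exists_maximal
    (s := {N : Subgroup G | N.Normal ∧ Group.IsSolvable N}) (Set.toFinite _)
    ⟨⊥, inferInstance, inferInstance⟩
  haveI : R.Normal := hRm.prop.1
  have hR : Group.IsSolvable R := hRm.prop.2
  have hrad : ∀ N : Subgroup (G ⧸ R), N.Normal → Group.IsSolvable N → N = ⊥ := by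
    intro N hN hNs
    have hle : R ≤ N.comap (QuotientGroup.mk' R) := fun x hx => by
      rw [mem_comap, show QuotientGroup.mk' R x = 1 from (QuotientGroup.eq_one_iff x).2 hx]
      exact N.one_mem
    have hs : Group.IsSolvable (N.comap (QuotientGroup.mk' R)) := by
      haveI := hR; haveI := hNs
      refine Group.isSolvable_of_ker_le_range (inclusion hle)
        ((QuotientGroup.mk' R).subgroupComap N) ?_
      intro x hx
      exact ⟨⟨x, (QuotientGroup.eq_one_iff _).1 (congrArg Subtype.val hx)⟩, rfl⟩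
    have heq := hRm.eq_of_le ⟨hN.comap _, hs⟩ hle
    rw [eq_bot_iff]
    intro y hy
    obtain ⟨x, rfl⟩ := QuotientGroup.mk'_surjective R y
    rw [mem_bot]
    exact (QuotientGroup.eq_one_iff x).2 (heq.symm ▸ (hy : x ∈ N.comap (QuotientGroup.mk' R)))
  obtain ⟨hpX, hnum, hiso⟩ := recognise hB hr₀G hns R hR hrad hF
  have hprimes : ∀ r, r.Prime → r ∣ Nat.card G → r = 2 ∨ r = 3 ∨ r = 17 := by
    intro r hr hrG
    by_contra hcon
    haveI := Fact.mk hr
    have hnd : ¬ r ∣ Nat.card (G ⧸ R) := fun h => hcon (hpX r hr h)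
    let P : Sylow r G := default
    have hPR : (P : Subgroup G) ≤ R := by
      intro x hx
      rw [← QuotientGroup.eq_one_iff, ← orderOf_eq_one_iff]
      obtain ⟨k, hk⟩ := IsPGroup.iff_orderOf.1 P.2 ⟨x, hx⟩
      rw [Subgroup.orderOf_mk] at hk
      have h1 : orderOf (QuotientGroup.mk x : G ⧸ R) ∣ r ^ k :=
        hk ▸ orderOf_map_dvd (QuotientGroup.mk' R) x
      exact Nat.eq_one_of_dvd_coprimes ((hr.coprime_iff_not_dvd.2 hnd).pow_left k) h1 (orderOf_dvd_natCard _)
    have hq : Nat.card (Sylow r (G ⧸ R)) = 1 := by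
      have hsub : ∀ Q : Sylow r (G ⧸ R), (Q : Subgroup (G ⧸ R)) = ⊥ := fun Q => by
        rw [← card_eq_one]
        obtain ⟨k, hk⟩ := IsPGroup.iff_card.1 Q.2
        rcases k with _ | k
        · rw [hk, pow_zero]
        · exact absurd ((Dvd.intro_left _ (by rw [hk, pow_succ])).trans (card_subgroup_dvd_card _)) hnd
      rw [Nat.card_eq_one_iff_unique]
      exact ⟨⟨fun a b => Sylow.ext ((hsub a).trans (hsub b).symm)⟩, ⟨default⟩⟩
    have h := card_sylow_quotient_mul P R
    rw [hq, one_mul] at h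
    have hsolv : Group.IsSolvable ((P : Subgroup G) ⊔ R : Subgroup G) := by
      rw [sup_eq_right.2 hPR]; exact hR
    rcases hB r hr hrG with ⟨rfl, -⟩ | ⟨rfl, -⟩ | ⟨rfl, hn⟩ | ⟨rfl, -⟩ | ⟨rfl, hn⟩
    · exact hcon (Or.inr (Or.inr rfl))
    · exact hcon (Or.inr (Or.inl rfl))
    · have := Cfsg.Agent.S4345.result hsolv 5 2 Nat.prime_two
      rw [← h, hn, show (136 : ℕ) = 2 ^ 3 * 17 by norm_num, Nat.factorization_mul (by norm_num) (by norm_num),
        Nat.prime_two.factorization_pow] at this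
      simp [Nat.factorization_eq_zero_of_not_dvd (show ¬ 2 ∣ 17 by norm_num), Nat.ModEq] at this
    · exact hcon (Or.inl rfl)
    · have := Cfsg.Agent.S4345.result hsolv 19 3 Nat.prime_three
      rw [← h, hn, show (153 : ℕ) = 3 ^ 2 * 17 by norm_num, Nat.factorization_mul (by norm_num) (by norm_num),
        Nat.prime_three.factorization_pow] at this
      simp [Nat.factorization_eq_zero_of_not_dvd (show ¬ 3 ∣ 17 by norm_num), Nat.ModEq] at this
  have hnorm : ∀ (r : ℕ) [Fact r.Prime] (P : Sylow r G), r ∣ Nat.card G →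
      R ≤ normalizer ((P : Subgroup G) : Set G) := by
    intro r _ P hrG
    have hr := Fact.out (p := r.Prime)
    have h := card_sylow_quotient_mul P R
    rw [hnum r hr hrG (hprimes r hr hrG)] at h
    have h1 : Nat.card (Sylow r ((P : Subgroup G) ⊔ R : Subgroup G)) = 1 :=
      Nat.eq_of_mul_eq_mul_left Nat.card_pos (h.symm.trans (mul_one _).symm)
    rw [card_sylow_of_le P le_sup_left, relIndex_eq_one] at h1
    exact le_sup_right.trans h1
  have hRbot : R = ⊥ := by
    by_contra hne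
    obtain ⟨r, hr, hrR⟩ := Nat.exists_prime_and_dvd (mt card_eq_one.1 hne)
    haveI := Fact.mk hr
    have hrG : r ∣ Nat.card G := hrR.trans (card_subgroup_dvd_card R)
    let P : Sylow r G := default
    have huniq : ∀ x ∈ R, (∃ k, orderOf x = r ^ k) → x ∈ (P : Subgroup G) := by
      rintro x hx ⟨k, hk⟩
      have hp : IsPGroup r (zpowers x) := IsPGroup.of_card (n := k) (by rw [Nat.card_zpowers, hk])
      have h := hp.inf_normalizer_sylow P
      exact ((le_inf le_rfl (zpowers_le.2 (hnorm r P hrG hx))).trans (h.le.trans inf_le_right))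
        (mem_zpowers _)
    set A := (P : Subgroup G) ⊓ R with hA
    haveI hAn : A.Normal := ⟨fun a ha g => by
      have hgR : g * a * g⁻¹ ∈ R := Normal.conj_mem inferInstance a ha.2 g
      refine ⟨huniq _ hgR ?_, hgR⟩
      obtain ⟨k, hk⟩ := IsPGroup.iff_orderOf.1 P.2 ⟨a, ha.1⟩
      rw [Subgroup.orderOf_mk] at hk
      exact ⟨k, (orderOf_injective (MulAut.conj g).toMonoidHom (MulAut.conj g).injective a).trans hk⟩⟩
    have hAne : A ≠ ⊥ := by
      obtain ⟨x, hx⟩ := exists_prime_orderOf_dvd_card' (G := R) r hrR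
      intro h
      have : (x : G) ∈ A := ⟨huniq x x.2 ⟨1, by rw [Subgroup.orderOf_coe, hx, pow_one]⟩, x.2⟩
      rw [h, mem_bot, OneMemClass.coe_eq_one] at this
      rw [this, orderOf_one] at hx
      exact hr.ne_one hx.symm
    haveI : Group.IsNilpotent (P : Subgroup G) := P.2.isNilpotent
    have hAP : A.subgroupOf (P : Subgroup G) ≠ ⊥ := by
      rw [Ne, subgroupOf_eq_bot, disjoint_iff, inf_eq_left.2 (inf_le_left : A ≤ P)]
      exact hAne
    obtain ⟨z, hz, hz1⟩ := (bot_or_exists_ne_one _).resolve_left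
      (CfsgLib.Coprime.nilpotent_inf_center_ne_bot (A.subgroupOf (P : Subgroup G)) hAP)
    refine hz1 (Subtype.ext ?_)
    have hzc : (z : G) ∈ center G := by
      have hC : centralizer ({(z : G)} : Set G) = ⊤ := by
        refine eq_top_of_card_eq _ (Nat.dvd_antisymm (card_subgroup_dvd_card _) ?_)
        rw [← Nat.factorization_le_iff_dvd Nat.card_pos.ne' Nat.card_pos.ne']
        intro s
        by_cases hs : s.Prime ∧ s ∣ Nat.card G
        swap
        · rw [show (Nat.card G).factorization s = 0 from (Nat.factorization_eq_zero_iff _ _).2 (by tauto)]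
          exact Nat.zero_le _
        obtain ⟨hs, hsG⟩ := hs
        haveI := Fact.mk hs
        have key : ∃ Q : Sylow s G, (Q : Subgroup G) ≤ centralizer ({(z : G)} : Set G) := by
          by_cases hsr : s = r
          · subst hsr
            exact ⟨P, fun y hy => mem_centralizer_singleton_iff.2
              (congrArg Subtype.val (mem_center_iff.1 hz.2 ⟨y, hy⟩))⟩
          refine ⟨default, fun y hy => ?_⟩
          have hzA : (z : G) ∈ A := hz.1
          have h1 : (z : G) * y * (z : G)⁻¹ * y⁻¹ ∈ ((default : Sylow s G) : Subgroup G) :=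
            mul_mem ((mem_normalizer_iff.1 (hnorm s default hsG hzA.2) y).1 hy) (inv_mem hy)
          have h2 : (z : G) * y * (z : G)⁻¹ * y⁻¹ ∈ A := by
            rw [show (z : G) * y * (z : G)⁻¹ * y⁻¹ = z * (y * (z : G)⁻¹ * y⁻¹) by group]
            exact A.mul_mem hzA (hAn.conj_mem _ (A.inv_mem hzA) y)
          obtain ⟨i, hi⟩ := IsPGroup.iff_orderOf.1 (default : Sylow s G).2 ⟨_, h1⟩
          obtain ⟨j, hj⟩ := IsPGroup.iff_orderOf.1 P.2 ⟨_, h2.1⟩
          rw [Subgroup.orderOf_mk] at hi hj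
          have : orderOf ((z : G) * y * (z : G)⁻¹ * y⁻¹) = 1 := Nat.eq_one_of_dvd_coprimes
            (((Nat.coprime_primes hs hr).2 hsr).pow i j) (dvd_of_eq hi) (dvd_of_eq hj)
          rw [orderOf_eq_one_iff, mul_inv_eq_one, mul_inv_eq_iff_eq_mul] at this
          exact mem_centralizer_singleton_iff.2 this.symm
        obtain ⟨Q, hQ⟩ := key
        refine (hs.pow_dvd_iff_le_factorization Nat.card_pos.ne').1 ?_
        rw [← Q.card_eq_multiplicity]
        exact card_dvd_of_le hQ
      exact mem_center_iff.2 fun g => mem_centralizer_singleton_iff.1 (hC ▸ mem_top g)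
    rwa [hZ, mem_bot] at hzc
  have e0 : G ⧸ R ≃* G := (QuotientGroup.quotientMulEquivOfEq hRbot).trans QuotientGroup.quotientBot
  rcases hiso with ⟨⟨e⟩⟩ | ⟨⟨e⟩⟩
  · exact Or.inl ⟨e0.symm.trans e⟩
  · exact Or.inr ⟨e0.symm.trans e⟩

end CfsgLib.Char.SylSeventeen
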